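import Mathlib
import Groth.Agent.S1555
import Groth.Agent.Lib.Helper3.QProj
import Groth.Agent.Lib.Helper3.AmpleMisc
import Groth.Agent.Lib.Helper3.InvGen
import Groth.Agent.Lib.Helper1.ProjSpaceFT
import Groth.Agent.Lib.Helper1.FpqcDescent

/-!
# Quasi-projectivity descends along a field extension (helper14, S4830)

Corollary of S1555 (ample descends along field extensions, helper3) + helper3's `QProj`.
-/

namespace Groth.Agent.Lib.Helper14.QProjField

open CategoryTheory CategoryTheory.Limits AlgebraicGeometry MorphismProperty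
open Groth.Agent.Lib.Helper3

universe u

variable {k : Type u} [Field k] (K : Type u) [Field K] [Algebra k K]

/-- `Spec K ⟶ Spec k` is an fpqc covering. -/
theorem fpqc_specMap :
    (@Surjective ⊓ @Flat ⊓ @QuasiCompact : MorphismProperty Scheme.{u})
      (Spec.map (CommRingCat.ofHom (algebraMap k K))) := by
  refine ⟨⟨?_, ?_⟩, inferInstance⟩
  · constructor
    intro x
    refine ⟨IsLocalRing.closedPoint K, ?_⟩
    exact Subsingleton.elim (α := PrimeSpectrum k) _ _
  · rw [HasRingHomProperty.Spec_iff (P := @Flat)]
    show (algebraMap k K).Flat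
    rw [RingHom.flat_algebraMap_iff]
    infer_instance

theorem exists_isAmple_spec (A : Type u) [CommRing A] :
    ∃ N : (Spec (CommRingCat.of A)).Modules, CohB1.IsAmple N :=
  ⟨_, AmpleMisc.isAmple_of_isAffine (InvGen.isInvertible_structureModule _)⟩

/-- A quasi-compact immersion into `P^n_K` over `K` of the base change gives an `H`-quasi-projective
structure over `k`. -/
theorem isHQuasiProjective_of_baseChange {X : Scheme.{u}} (p : X ⟶ Spec (CommRingCat.of k))
    (h : RelProj.IsHQuasiProjective
      (pullback.snd p (Spec.map (CommRingCat.ofHom (algebraMap k K))))) :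
    RelProj.IsHQuasiProjective p := by
  have hq := QProj.isQuasiProjective_of_isHQuasiProjective _ h
  obtain ⟨L', hL'⟩ := QProj.exists_isAmple_of_isQuasiProjective _ (exists_isAmple_spec K) hq
  obtain ⟨hft, hqc, -⟩ := hq
  letI : X.Over (Spec (CommRingCat.of k)) := ⟨p⟩
  obtain ⟨L, hL⟩ := Groth.Agent.S1555.result k X K L' hL'
  haveI : LocallyOfFiniteType p :=
    MorphismProperty.of_pullback_snd_of_descendsAlong (P := @LocallyOfFiniteType)
      (Q := (@Surjective ⊓ @Flat ⊓ @QuasiCompact : MorphismProperty Scheme.{u}))
      (fpqc_specMap K) hft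
  haveI : QuasiCompact p :=
    MorphismProperty.of_pullback_snd_of_descendsAlong (P := @QuasiCompact)
      (Q := (@Surjective ⊓ @Flat ⊓ @QuasiCompact : MorphismProperty Scheme.{u}))
      (fpqc_specMap K) hqc
  exact QProj.isHQuasiProjective_of_isAmple p hL

/-- An immersion into `P^n_K` is quasi-compact (`P^n_K` is Noetherian). -/
theorem quasiCompact_of_isImmersion_projSpace {Y : Scheme.{u}} (n : ℕ)
    (i : Y ⟶ CohB1.ProjSpaceOver n (Spec (CommRingCat.of K))) [IsImmersion i] : QuasiCompact i := by
  haveI : IsLocallyNoetherian (CohB1.ProjSpaceOver n (Spec (CommRingCat.of K))) :=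
    LocallyOfFiniteType.isLocallyNoetherian (CohB1.ProjSpaceOver.toBase n (Spec (CommRingCat.of K)))
  rw [← i.liftCoborder_ι]
  haveI : QuasiCompact i.liftCoborder := inferInstance
  haveI : QuasiCompact i.coborderRange.ι := inferInstance
  infer_instance

end Groth.Agent.Lib.Helper14.QProjField
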